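import Groth.Agent.Synt29.RegSeq
import Groth.Agent.LC.Sop
import Groth.Agent.CplKaehler4.Unram
import Groth.Agent.LC.LiaisonLocal
import Mathlib.RingTheory.Flat.Localization
import Mathlib.RingTheory.Jacobson.Ring
import Mathlib.RingTheory.LocalRing.Module
import Mathlib.RingTheory.HopkinsLevitzki

/-! A finite free local quotient of a flat local algebra with Cohen–Macaulay closed fibre. -/

set_option autoImplicit false
universe u
open TensorProduct IsLocalRing RingTheory.Sequence

namespace Groth.Agent.StrictRat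

theorem finite_of_nilpotent {A B : Type u} [CommRing A] [CommRing B] [Algebra A B] [IsNoetherianRing B] (m : Ideal B)
    [Module.Finite A (B ⧸ m)] : ∀ (n : ℕ) (M : Type u) [AddCommGroup M] [Module B M] [Module A M] [IsScalarTower A B M]
      [Module.Finite B M], (∀ b ∈ m ^ n, ∀ x : M, b • x = 0) → Module.Finite A M := by
  intro n
  induction n with
  | zero =>
    intro M _ _ _ _ _ h
    haveI : Subsingleton M := subsingleton_of_forall_eq 0 fun x => by
      simpa using h 1 (by simp) x
    infer_instance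
  | succ n ih =>
    intro M _ _ _ _ _ h
    let N : Submodule B M := m • ⊤
    haveI : Module.Finite A ↥(N.restrictScalars A) := by
      haveI : Module.Finite A N := ih N fun b hb x => Subtype.ext (by
        show b • (x : M) = 0
        have hx := x.2
        generalize (x : M) = y at hx ⊢
        induction hx using Submodule.smul_induction_on' with
        | smul c hc y _ => rw [smul_smul]; exact h _ (by rw [pow_succ]; exact Ideal.mul_mem_mul hb hc) y
        | add y _ z _ hy hz => rw [smul_add, hy, hz, add_zero])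
      exact ‹Module.Finite A N›
    haveI : Module.Finite A (M ⧸ N.restrictScalars A) := by
      haveI : Module.Finite A (M ⧸ N) := by
        haveI : Module.Finite (B ⧸ m) (M ⧸ (m • ⊤ : Submodule B M)) := Module.Finite.of_restrictScalars_finite B _ _
        exact Module.Finite.trans (B ⧸ m) _
      exact Module.Finite.equiv (Submodule.Quotient.restrictScalarsEquiv A N).symm
    exact Module.Finite.of_submodule_quotient (N.restrictScalars A)

theorem exists_slice (A : Type u) [CommRing A] [IsArtinianRing A] [IsLocalRing A] (R : Type u) [CommRing R] [Algebra A R]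
    [Algebra.FiniteType A R] [Module.Flat A R] (q : Ideal R) [hq : q.IsMaximal] (q₀ : Ideal (R ⊗[A] ResidueField A))
    [q₀.IsPrime] (hq₀ : q₀.comap (Algebra.TensorProduct.includeLeft : R →ₐ[A] R ⊗[A] ResidueField A) = q)
    (hcm : LocCoh.IsCohenMacaulayLocalRing (Localization.AtPrime q₀)) :
    ∃ (B : Type u) (_ : CommRing B) (_ : IsLocalRing B) (_ : Algebra A B) (_ : Module.Finite A B) (_ : Module.Free A B)
      (ρ : R →ₐ[A] B), (maximalIdeal B).comap ρ = q ∧ ∀ b : B, ∃ r : R, b - ρ r ∈ maximalIdeal B := by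
  haveI : IsNoetherianRing A := inferInstance
  haveI : IsNoetherianRing R := Algebra.FiniteType.isNoetherianRing A R
  let O := Localization.AtPrime q
  haveI : Module.Flat A O := Module.Flat.trans A R O
  -- the structure map is local
  letI : Field (R ⧸ q) := Ideal.Quotient.field q
  haveI : Module.Finite A (R ⧸ q) := finite_of_finite_type_of_isJacobsonRing A (R ⧸ q)
  have hqA : q.comap (algebraMap A R) = maximalIdeal A :=
    IsLocalRing.eq_maximalIdeal (IsArtinianRing.isMaximal_of_isPrime _)
  haveI : IsLocalHom (algebraMap A O) := ⟨fun a ha => by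
    by_contra h
    have h1 : algebraMap A R a ∈ q := by
      rw [← Ideal.mem_comap, hqA]; exact (IsLocalRing.mem_maximalIdeal _).2 h
    rw [IsScalarTower.algebraMap_apply A R O] at ha
    exact (IsLocalization.AtPrime.isUnit_to_map_iff O q (algebraMap A R a)).1 ha h1⟩
  let J : Ideal O := (maximalIdeal A).map (algebraMap A O)
  let T := R ⊗[A] ResidueField A
  let iT : R →ₐ[A] T := Algebra.TensorProduct.includeLeft
  have hsurj : Function.Surjective iT :=
    Algebra.TensorProduct.includeLeft_surjective A _ IsLocalRing.residue_surjective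
  have hker : RingHom.ker iT.toRingHom = (maximalIdeal A).map (algebraMap A R) := by
    ext r
    show r ⊗ₜ[A] (1 : ResidueField A) = 0 ↔ _
    rw [FlatLoc6.tmul_one_eq_zero_iff (B := R) r, FlatLoc6.mN, smul_eq_mul, Ideal.mul_top]
  have hJR : J = ((maximalIdeal A).map (algebraMap A R)).map (algebraMap R O) := by
    rw [Ideal.map_map, ← IsScalarTower.algebraMap_eq]
  let ψ : T →+* O ⧸ J := iT.toRingHom.liftOfSurjective hsurj ⟨(Ideal.Quotient.mk J).comp (algebraMap R O), fun r hr => by
    rw [hker] at hr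
    show Ideal.Quotient.mk J (algebraMap R O r) = 0
    rw [Ideal.Quotient.eq_zero_iff_mem, hJR]
    exact Ideal.mem_map_of_mem _ hr⟩
  have hψ : ∀ r, ψ (iT r) = Ideal.Quotient.mk J (algebraMap R O r) := fun r =>
    RingHom.liftOfRightInverse_comp_apply _ _ _ _ r
  letI : Algebra T (O ⧸ J) := ψ.toAlgebra
  have hq₀' : ∀ r, iT r ∈ q₀ ↔ r ∈ q := fun r => by rw [← hq₀]; exact Iff.rfl
  haveI : IsLocalization.AtPrime (O ⧸ J) q₀ := by
    refine { map_units := ?_, surj := ?_, exists_of_eq := ?_ }
    · rintro ⟨y, hy⟩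
      obtain ⟨r, rfl⟩ := hsurj y
      show IsUnit (ψ (iT r))
      rw [hψ]
      exact (IsLocalization.map_units O (⟨r, fun h => hy ((hq₀' r).2 h)⟩ : q.primeCompl)).map _
    · intro z
      obtain ⟨z, rfl⟩ := Ideal.Quotient.mk_surjective z
      obtain ⟨⟨r, s, hs⟩, h⟩ := IsLocalization.surj q.primeCompl z
      refine ⟨⟨iT r, iT s, fun hh => hs ((hq₀' s).1 hh)⟩, ?_⟩
      show Ideal.Quotient.mk J z * ψ (iT s) = ψ (iT r)
      rw [hψ, hψ, ← map_mul, h]
    · intro x y h
      obtain ⟨x, rfl⟩ := hsurj x
      obtain ⟨y, rfl⟩ := hsurj y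
      change ψ (iT x) = ψ (iT y) at h
      rw [hψ, hψ, Ideal.Quotient.eq, ← map_sub, hJR, IsLocalization.algebraMap_mem_map_algebraMap_iff q.primeCompl] at h
      obtain ⟨c, hc, hcm⟩ := h
      refine ⟨⟨iT c, fun hh => hc ((hq₀' c).1 hh)⟩, ?_⟩
      rw [← hker, RingHom.mem_ker] at hcm
      show iT c * iT x = iT c * iT y
      rw [← sub_eq_zero, ← map_mul, ← map_mul, ← map_sub, ← mul_sub]
      exact hcm
  haveI hcm' : LocCoh.IsCohenMacaulayLocalRing (O ⧸ J) :=
    haveI := hcm
    LC.Liaison.isCMLocal_of_ringEquiv (IsLocalization.algEquiv q₀.primeCompl (Localization.AtPrime q₀) (O ⧸ J)).toRingEquiv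
  haveI : IsLocalRing (O ⧸ J) := hcm'.toIsLocalRing
  obtain ⟨e, t, ht, he, hrad⟩ := CohenLib.exists_fin_sop (O ⧸ J)
  choose t' ht' using fun i => Ideal.Quotient.mk_surjective (t i)
  let rs : List O := List.ofFn t'
  have htmem : ∀ i, t' i ∈ maximalIdeal O := fun i => by
    by_contra h
    rw [IsLocalRing.mem_maximalIdeal, mem_nonunits_iff, not_not] at h
    exact (IsLocalRing.mem_maximalIdeal _).1 (ht i) (ht' i ▸ h.map _)
  have hmap : rs.map (Ideal.Quotient.mk J) = List.ofFn t := by
    rw [List.map_ofFn]; exact congrArg List.ofFn (funext ht')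
  have hspan : Ideal.ofList (List.ofFn t) = Ideal.span (Set.range t) := by
    rw [Ideal.ofList]; congr 1; ext x; simp [List.mem_ofFn]
  have hrad' : (Ideal.ofList (List.ofFn t)).radical = maximalIdeal (O ⧸ J) := by
    rw [hspan]
    exact le_antisymm ((maximalIdeal.isMaximal _).isPrime.radical_le_iff.2 (Ideal.span_le.2 (Set.range_subset_iff.2 ht))) hrad
  have hregbar : IsWeaklyRegular (O ⧸ J) (List.ofFn t) :=
    LC.isWeaklyRegular_of_sop hcm'.supportDim_eq_depth e he _ List.length_ofFn hrad'
  have hreg : IsWeaklyRegular (O ⧸ FlatLoc6.mN A O O) rs := by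
    have hmN : FlatLoc6.mN A O O = J := by rw [FlatLoc6.mN, smul_eq_mul, Ideal.mul_top]
    refine ((Submodule.quotEquivOfEq _ _ hmN).isWeaklyRegular_congr rs).2 ?_
    rw [← hmap] at hregbar
    exact (isWeaklyRegular_map_algebraMap_iff (O ⧸ J) (O ⧸ J) rs).1 hregbar
  obtain ⟨-, hflat⟩ := Synt29.weaklyRegular_and_flat_of_fibre rs O hreg
  let I : Ideal O := Ideal.ofList rs
  have hI : I ≤ maximalIdeal O := Ideal.span_le.2 fun x hx => by
    obtain ⟨i, rfl⟩ := List.mem_ofFn.1 hx
    exact htmem i
  let B := O ⧸ I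
  haveI : Nontrivial B := Ideal.Quotient.nontrivial_iff.2 fun h => (maximalIdeal.isMaximal O).ne_top (top_le_iff.1 (h ▸ hI))
  haveI : IsLocalRing B := .of_surjective' (Ideal.Quotient.mk I) Ideal.Quotient.mk_surjective
  haveI : Module.Flat A B := by
    haveI := hflat
    exact Module.Flat.of_linearEquiv ((Submodule.quotEquivOfEq I (Ideal.ofList rs • ⊤) (by rw [smul_eq_mul, Ideal.mul_top])).restrictScalars A)
  have hBm : maximalIdeal B = (maximalIdeal O).map (Ideal.Quotient.mk I) :=
    (IsLocalRing.map_maximalIdeal_of_surjective (Ideal.Quotient.mk I) Ideal.Quotient.mk_surjective).symm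
  have hnil : maximalIdeal B ≤ nilradical B := by
    rw [hBm, Ideal.map_le_iff_le_comap]
    intro z hz
    have h1 : Ideal.Quotient.mk J z ∈ (Ideal.ofList (List.ofFn t)).radical := by
      rw [hrad', IsLocalRing.mem_maximalIdeal]
      intro hu
      refine (IsLocalRing.mem_maximalIdeal _).1 hz ?_
      haveI : IsLocalHom (Ideal.Quotient.mk J) := .of_surjective _ Ideal.Quotient.mk_surjective
      exact isUnit_of_map_unit (Ideal.Quotient.mk J) z hu
    obtain ⟨n, hn⟩ := h1
    rw [← hmap, ← Ideal.map_ofList, ← map_pow, ← Ideal.mem_comap, Ideal.comap_map_of_surjective _ Ideal.Quotient.mk_surjective,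
      ← RingHom.ker_eq_comap_bot, Ideal.mk_ker] at hn
    obtain ⟨a, ha, b, hb, hab⟩ := Submodule.mem_sup.1 hn
    have hbn : IsNilpotent (Ideal.Quotient.mk I b) := by
      obtain ⟨N, hN⟩ := IsArtinianRing.isNilpotent_jacobson_bot (R := A)
      rw [IsLocalRing.jacobson_eq_maximalIdeal ⊥ bot_ne_top] at hN
      refine IsNilpotent.map ⟨N, ?_⟩ _
      have := Ideal.pow_mem_pow hb N
      rwa [← Ideal.map_pow, hN, Ideal.zero_eq_bot, Ideal.map_bot, Ideal.mem_bot] at this
    show IsNilpotent (Ideal.Quotient.mk I z)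
    refine IsNilpotent.of_pow (m := n) ?_
    rw [← map_pow, ← hab, map_add, show Ideal.Quotient.mk I a = 0 from Ideal.Quotient.eq_zero_iff_mem.2 ha, zero_add]
    exact hbn
  have hres : ∀ b : B, ∃ r : R, b - Ideal.Quotient.mk I (algebraMap R O r) ∈ maximalIdeal B := by
    intro b
    obtain ⟨z, rfl⟩ := Ideal.Quotient.mk_surjective b
    obtain ⟨⟨r, s, hs⟩, h⟩ := IsLocalization.surj q.primeCompl z
    obtain ⟨w, hw⟩ := Ideal.Quotient.mk_surjective ((Ideal.Quotient.mk q s)⁻¹)
    refine ⟨r * w, ?_⟩
    rw [← map_sub, hBm]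
    refine Ideal.mem_map_of_mem _ ?_
    have hsw : algebraMap R O (1 - s * w) ∈ maximalIdeal O := by
      rw [← Localization.AtPrime.map_eq_maximalIdeal]
      refine Ideal.mem_map_of_mem _ (Ideal.Quotient.eq_zero_iff_mem.1 ?_)
      rw [map_sub, map_one, map_mul, hw, mul_inv_cancel₀ (fun h => hs (Ideal.Quotient.eq_zero_iff_mem.1 h)), sub_self]
    convert Ideal.mul_mem_left _ z hsw using 1
    rw [map_mul, ← h, map_sub, map_one, map_mul]
    ring
  let ρ : R →ₐ[A] B := (Ideal.Quotient.mkₐ A I).comp (IsScalarTower.toAlgHom A R O)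
  have hcomap : (maximalIdeal B).comap ρ = q :=
    (hq.eq_of_le (Ideal.IsPrime.comap ρ).ne_top fun r hr => by
      rw [Ideal.mem_comap, hBm]
      refine Ideal.mem_map_of_mem _ ?_
      rw [← Localization.AtPrime.map_eq_maximalIdeal]
      exact Ideal.mem_map_of_mem _ hr).symm
  haveI : Module.Finite A B := by
    haveI : Module.Finite A (B ⧸ maximalIdeal B) := by
      refine Module.Finite.of_surjective (Submodule.liftQ (q.restrictScalars A)
        ((Ideal.Quotient.mkₐ A (maximalIdeal B)).comp ρ).toLinearMap (fun r hr => ?_) ∘ₗ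
          (Submodule.Quotient.restrictScalarsEquiv A q).symm.toLinearMap) ?_
      · show Ideal.Quotient.mk (maximalIdeal B) (ρ r) = 0
        rw [Ideal.Quotient.eq_zero_iff_mem, ← Ideal.mem_comap, hcomap]
        exact hr
      · intro b
        obtain ⟨b, rfl⟩ := Ideal.Quotient.mk_surjective b
        obtain ⟨r, hr⟩ := hres b
        exact ⟨Submodule.Quotient.mk r, (Ideal.Quotient.eq.2 hr).symm⟩
    obtain ⟨N, hN⟩ := (IsNoetherianRing.isNilpotent_nilradical B)
    refine finite_of_nilpotent (maximalIdeal B) N B fun b hb x => ?_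
    have := Ideal.pow_right_mono hnil N hb
    rw [hN] at this
    rw [show b = 0 from this]
    exact zero_smul B x
  haveI : Module.FinitePresentation A B := Module.finitePresentation_of_finite A B
  haveI : Module.Free A B := Module.free_of_flat_of_isLocalRing
  exact ⟨B, inferInstance, inferInstance, inferInstance, inferInstance, inferInstance, ρ, hcomap, hres⟩

end Groth.Agent.StrictRat
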