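import Groth.Agent.StrictRat.Lift
import Groth.Agent.StrictRat.Slice
import Groth.Agent.S3029
import Groth.Prelude.Def_SGA3
import Mathlib.AlgebraicGeometry.PullbackCarrier
import Mathlib.AlgebraicGeometry.Morphisms.Flat

/-! Strictly rational points over a finite free extension of an artinian base. -/

set_option autoImplicit false
universe u
open CategoryTheory CategoryTheory.Limits AlgebraicGeometry TensorProduct MonoidalCategory CartesianMonoidalCategory MonObj GrpObj

namespace Groth.Agent.StrictRat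

variable (A : Type u) [CommRing A]

/-- The chart of a base change of `G`. -/
theorem exists_chart (G : Scheme.{u}) (f : G ⟶ Spec (CommRingCat.of A)) {U : G.Opens} (hU : IsAffineOpen U)
    [Algebra A Γ(G, U)] (hf : hU.fromSpec ≫ f = Spec.map (CommRingCat.ofHom (algebraMap A Γ(G, U))))
    (A' : Type u) [CommRing A'] [Algebra A A'] :
    ∃ j : Spec (CommRingCat.of (Γ(G, U) ⊗[A] A')) ⟶ pullback f (Spec.map (CommRingCat.ofHom (algebraMap A A'))),
      IsOpenImmersion j ∧
      j ≫ pullback.fst _ _ = Spec.map (CommRingCat.ofHom (Algebra.TensorProduct.includeLeft : Γ(G, U) →ₐ[A] Γ(G, U) ⊗[A] A').toRingHom) ≫ hU.fromSpec ∧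
      j ≫ pullback.snd _ _ = Spec.map (CommRingCat.ofHom (Algebra.TensorProduct.includeRight : A' →ₐ[A] Γ(G, U) ⊗[A] A').toRingHom) ∧
      ∀ z : ↥(pullback f (Spec.map (CommRingCat.ofHom (algebraMap A A')))),
        (pullback.fst f (Spec.map (CommRingCat.ofHom (algebraMap A A')))).base z ∈ U → z ∈ Set.range j.base := by
  let σ := Spec.map (CommRingCat.ofHom (algebraMap A A'))
  let m : pullback (Spec.map (CommRingCat.ofHom (algebraMap A Γ(G, U)))) σ ⟶ pullback f σ :=
    pullback.map _ _ _ _ hU.fromSpec (𝟙 _) (𝟙 _) (by rw [hf, Category.comp_id]) (by simp [σ])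
  refine ⟨(pullbackSpecIso A Γ(G, U) A').inv ≫ m, inferInstance, ?_, ?_, fun z hz => ?_⟩
  · simp only [m, σ, pullback.map, Category.assoc, pullback.lift_fst, pullback.lift_snd]
    rw [pullbackSpecIso_inv_fst_assoc]
    rfl
  · simp only [m, σ, pullback.map, Category.assoc, pullback.lift_fst, pullback.lift_snd, Category.comp_id]
    rw [pullbackSpecIso_inv_snd]
    rfl
  · have h1 : z ∈ Set.range m.base := by
      rw [Scheme.Pullback.range_map]
      exact ⟨by rw [Set.mem_preimage, hU.range_fromSpec]; exact hz, ⟨_, rfl⟩⟩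
    obtain ⟨w, hw⟩ := h1
    obtain ⟨v, hv⟩ := (pullbackSpecIso A Γ(G, U) A').inv.surjective w
    exact ⟨v, by rw [Scheme.Hom.comp_apply, hv, hw]⟩

theorem exists_strictlyRational [IsArtinianRing A] [IsLocalRing A] (G : Over (Spec (CommRingCat.of A))) [GrpObj G]
    [Flat G.hom] [LocallyOfFiniteType G.hom] (x : G.left) (hx : IsClosed ({x} : Set G.left)) :
    ∃ (A' : Type u) (_ : CommRing A') (_ : IsLocalRing A') (_ : Algebra A A') (_ : Module.Finite A A') (_ : Module.Free A A'),
      ∀ x' : ↥(pullback G.hom (Spec.map (CommRingCat.ofHom (algebraMap A A')))),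
        (pullback.fst G.hom (Spec.map (CommRingCat.ofHom (algebraMap A A')))).base x' = x →
        ∃ s : Spec (CommRingCat.of A') ⟶ pullback G.hom (Spec.map (CommRingCat.ofHom (algebraMap A A'))),
          s ≫ pullback.snd G.hom (Spec.map (CommRingCat.ofHom (algebraMap A A'))) = 𝟙 _ ∧ x' ∈ Set.range s.base := by
  obtain ⟨U, hU, hxU, -⟩ := exists_isAffineOpen_mem_and_subset (U := (⊤ : G.left.Opens)) (x := x) trivial
  let α : CommRingCat.of A ⟶ Γ(G.left, U) := Spec.preimage (hU.fromSpec ≫ G.hom)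
  have hα : Spec.map α = hU.fromSpec ≫ G.hom := Spec.map_preimage _
  letI : Algebra A Γ(G.left, U) := α.hom.toAlgebra
  have hf : hU.fromSpec ≫ G.hom = Spec.map (CommRingCat.ofHom (algebraMap A Γ(G.left, U))) := hα.symm
  haveI : Algebra.FiniteType A Γ(G.left, U) :=
    (HasRingHomProperty.Spec_iff (P := @LocallyOfFiniteType) (φ := α)).1 (hα ▸ inferInstance)
  haveI : Module.Flat A Γ(G.left, U) :=
    (HasRingHomProperty.Spec_iff (P := @Flat) (φ := α)).1 (hα ▸ inferInstance)
  let q := (hU.primeIdealOf ⟨x, hxU⟩).asIdeal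
  haveI hqm : q.IsMaximal := hU.primeIdealOf_isMaximal_of_isClosed ⟨x, hxU⟩ hx
  have hqx : hU.fromSpec.base (hU.primeIdealOf ⟨x, hxU⟩) = x := hU.fromSpec_primeIdealOf _
  -- the closed fibre is Cohen–Macaulay
  haveI : IsNoetherianRing A := inferInstance
  haveI : Module.Finite A (Γ(G.left, U) ⧸ q) :=
    letI := Ideal.Quotient.field q
    finite_of_finite_type_of_isJacobsonRing A (Γ(G.left, U) ⧸ q)
  have hqA : q.comap (algebraMap A Γ(G.left, U)) = IsLocalRing.maximalIdeal A :=
    IsLocalRing.eq_maximalIdeal (IsArtinianRing.isMaximal_of_isPrime _)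
  let kA : IsLocalRing.ResidueField A →ₐ[A] Γ(G.left, U) ⧸ q :=
    { Ideal.Quotient.lift (IsLocalRing.maximalIdeal A) (algebraMap A (Γ(G.left, U) ⧸ q)) (fun a ha =>
        Ideal.Quotient.eq_zero_iff_mem.2 (by rw [← hqA] at ha; exact ha)) with
      commutes' := fun a => rfl }
  let Φ : Γ(G.left, U) ⊗[A] IsLocalRing.ResidueField A →ₐ[A] Γ(G.left, U) ⧸ q :=
    Algebra.TensorProduct.lift (Ideal.Quotient.mkₐ A q) kA fun _ _ => Commute.all _ _
  haveI : IsDomain (Γ(G.left, U) ⧸ q) := Ideal.Quotient.isDomain q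
  let q₀ := RingHom.ker Φ.toRingHom
  haveI : q₀.IsPrime := RingHom.ker_isPrime _
  have hq₀ : q₀.comap (Algebra.TensorProduct.includeLeft : Γ(G.left, U) →ₐ[A] Γ(G.left, U) ⊗[A] IsLocalRing.ResidueField A) = q := by
    ext r
    show Φ (r ⊗ₜ 1) = 0 ↔ _
    simp [Φ, Ideal.Quotient.eq_zero_iff_mem]
  let σ₀ := Spec.map (CommRingCat.ofHom (algebraMap A (IsLocalRing.ResidueField A)))
  obtain ⟨j₀, hj₀, -, -, -⟩ := exists_chart A G.left G.hom hU hf (IsLocalRing.ResidueField A)
  haveI := hj₀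
  let G₀ := (Over.pullback σ₀).obj G
  haveI : LocallyOfFiniteType G₀.hom := inferInstanceAs (LocallyOfFiniteType (pullback.snd G.hom σ₀))
  have hcm : LocCoh.IsCohenMacaulayLocalRing (Localization.AtPrime q₀) := by
    let T := Γ(G.left, U) ⊗[A] IsLocalRing.ResidueField A
    haveI : IsNoetherianRing Γ(G.left, U) := Algebra.FiniteType.isNoetherianRing A Γ(G.left, U)
    haveI : IsNoetherianRing T :=
      isNoetherianRing_of_surjective Γ(G.left, U) T
        (Algebra.TensorProduct.includeLeft : Γ(G.left, U) →ₐ[A] T).toRingHom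
        (Algebra.TensorProduct.includeLeft_surjective A _ IsLocalRing.residue_surjective)
    let z : Spec (CommRingCat.of T) := (⟨q₀, inferInstance⟩ : PrimeSpectrum T)
    haveI h1 : LocCoh.IsCohenMacaulayLocalRing (G₀.left.presheaf.stalk (j₀.base z)) :=
      Groth.Agent.S3029.result (IsLocalRing.ResidueField A) G₀ (j₀.base z)
    have h2 : LocCoh.IsCohenMacaulayLocalRing ((Spec (CommRingCat.of T)).presheaf.stalk z) :=
      @LC.Liaison.isCMLocal_of_ringEquiv _ _ h1 _ _ inferInstance inferInstance (asIso (j₀.stalkMap z)).commRingCatIsoToRingEquiv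
    exact @LC.Liaison.isCMLocal_of_ringEquiv _ _ h2 _ _ inferInstance inferInstance ((StructureSheaf.stalkIso T z).symm).toRingEquiv
  obtain ⟨B, _, _, _, _, _, ρ, hρq, hρs⟩ := exists_slice A Γ(G.left, U) q q₀ hq₀ hcm
  obtain ⟨A', _, _, _, _, _, π, hπ⟩ := exists_lift A B
  refine ⟨A', inferInstance, inferInstance, inferInstance, inferInstance, inferInstance, fun x' hx' => ?_⟩
  obtain ⟨j, hj, hj1, hj2, hjr⟩ := exists_chart A G.left G.hom hU hf A'
  obtain ⟨Q, rfl⟩ := hjr x' (by rw [hx']; exact hxU)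
  have hQ : Q.asIdeal.comap (Algebra.TensorProduct.includeLeft : Γ(G.left, U) →ₐ[A] Γ(G.left, U) ⊗[A] A') = q := by
    have h1 : hU.fromSpec.base ((Spec.map (CommRingCat.ofHom (Algebra.TensorProduct.includeLeft : Γ(G.left, U) →ₐ[A] Γ(G.left, U) ⊗[A] A').toRingHom)).base Q) =
        hU.fromSpec.base (hU.primeIdealOf ⟨x, hxU⟩) := by
      rw [hqx, ← hx', ← Scheme.Hom.comp_apply, ← hj1, Scheme.Hom.comp_apply]
    exact congrArg PrimeSpectrum.asIdeal (hU.fromSpec.isOpenEmbedding.injective h1)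
  obtain ⟨ψ, hψ⟩ := exists_section A Γ(G.left, U) B A' q ρ hρq hρs π hπ Q.asIdeal hQ
  let ev : Γ(G.left, U) ⊗[A] A' →ₐ[A] A' := Algebra.TensorProduct.lift ψ (AlgHom.id A A') fun _ _ => Commute.all _ _
  refine ⟨Spec.map (CommRingCat.ofHom ev.toRingHom) ≫ j, ?_, IsLocalRing.closedPoint A', ?_⟩
  · rw [Category.assoc, hj2, ← Spec.map_comp, ← CommRingCat.ofHom_comp,
      show ev.toRingHom.comp (Algebra.TensorProduct.includeRight : A' →ₐ[A] Γ(G.left, U) ⊗[A] A').toRingHom = RingHom.id A' from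
        RingHom.ext fun a => by simp [ev]]
    exact Spec.map_id _
  · rw [Scheme.Hom.comp_apply]
    exact congrArg j.base (PrimeSpectrum.ext hψ.symm)

end Groth.Agent.StrictRat
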