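import Mathlib.RingTheory.Artinian.Ring
import Mathlib.RingTheory.HopkinsLevitzki
import Mathlib.RingTheory.Flat.Localization
import Mathlib.RingTheory.LocalRing.Module
import Mathlib.RingTheory.TensorProduct.Free
import Mathlib.RingTheory.TensorProduct.Finite
import Mathlib.FieldTheory.IsAlgClosed.AlgebraicClosure
import Mathlib.RingTheory.Jacobson.Ring

/-! A finite free local extension of an artinian local ring through which all geometric closed points of
a finite free local algebra lift. -/

set_option autoImplicit false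
universe u
open TensorProduct IsLocalRing

namespace Groth.Agent.StrictRat

variable (A : Type u) [CommRing A]

/-- A finite algebra has finitely many maps to a domain. -/
theorem finite_algHom (B K : Type u) [CommRing B] [Algebra A B] [Module.Finite A B] [CommRing K] [IsDomain K]
    [Algebra A K] : Finite (B →ₐ[A] K) := by
  classical
  obtain ⟨n, g, hg⟩ := Module.Finite.exists_fin (R := A) (M := B)
  choose p hp hp' using fun i => Algebra.IsIntegral.isIntegral (R := A) (g i)
  let F : (B →ₐ[A] K) → ((i : Fin n) → {z : K // z ∈ ((p i).map (algebraMap A K)).roots}) := fun σ i =>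
    ⟨σ (g i), by
      rw [Polynomial.mem_roots ((hp i).map _).ne_zero, Polynomial.IsRoot, Polynomial.eval_map, ← Polynomial.aeval_def,
        Polynomial.aeval_algHom_apply, Polynomial.aeval_def, hp' i, map_zero]⟩
  refine Finite.of_injective F fun σ τ h => ?_
  refine AlgHom.toLinearMap_injective (LinearMap.ext_on_range hg fun i => ?_)
  exact congrArg Subtype.val (congrFun h i)

variable [IsArtinianRing A] [IsLocalRing A]

/-- The step of the construction: one geometric point. -/
theorem exists_step (B : Type u) [CommRing B] [Algebra A B] [Module.Finite A B] [Module.Free A B]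
    (A' : Type u) [CommRing A'] [Algebra A A'] [Module.Finite A A'] [Module.Free A A']
    (π : A' →ₐ[A] AlgebraicClosure (ResidueField A)) (σ : B →ₐ[A] AlgebraicClosure (ResidueField A)) :
    ∃ (A'' : Type u) (_ : CommRing A'') (_ : IsLocalRing A'') (_ : Algebra A A'') (_ : Module.Finite A A'')
      (_ : Module.Free A A'') (π' : A'' →ₐ[A] AlgebraicClosure (ResidueField A)) (j : A' →ₐ[A] A'') (ψ : B →ₐ[A] A''),
      π'.comp j = π ∧ π'.comp ψ = σ := by
  let C := A' ⊗[A] B
  haveI : IsArtinianRing C := IsArtinianRing.of_finite A C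
  let Φ : C →ₐ[A] AlgebraicClosure (ResidueField A) := Algebra.TensorProduct.lift π σ fun _ _ => Commute.all _ _
  let Q := RingHom.ker Φ.toRingHom
  haveI : Q.IsPrime := RingHom.ker_isPrime _
  let A'' := Localization.AtPrime Q
  haveI : Module.Finite A A'' :=
    Module.Finite.of_surjective (IsScalarTower.toAlgHom A C A'').toLinearMap
      (IsArtinianRing.localization_surjective Q.primeCompl A'')
  haveI : Module.Flat A A'' := Module.Flat.trans A C A''
  haveI : Module.FinitePresentation A A'' := Module.finitePresentation_of_finite A A''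
  haveI : Module.Free A A'' := Module.free_of_flat_of_isLocalRing
  have hu : ∀ y : Q.primeCompl, IsUnit (Φ y) := fun y => Ne.isUnit y.2
  refine ⟨A'', inferInstance, inferInstance, inferInstance, inferInstance, inferInstance,
    IsLocalization.liftAlgHom hu, (IsScalarTower.toAlgHom A C A'').comp Algebra.TensorProduct.includeLeft,
    (IsScalarTower.toAlgHom A C A'').comp Algebra.TensorProduct.includeRight, ?_, ?_⟩
  · ext a
    show IsLocalization.lift hu (algebraMap C A'' (a ⊗ₜ 1)) = π a
    rw [IsLocalization.lift_eq]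
    exact (Algebra.TensorProduct.lift_tmul _ _ _ _ _).trans (by simp)
  · ext b
    show IsLocalization.lift hu (algebraMap C A'' (1 ⊗ₜ b)) = σ b
    rw [IsLocalization.lift_eq]
    exact (Algebra.TensorProduct.lift_tmul _ _ _ _ _).trans (by simp)

theorem exists_lift (B : Type u) [CommRing B] [Algebra A B] [Module.Finite A B] [Module.Free A B] :
    ∃ (A' : Type u) (_ : CommRing A') (_ : IsLocalRing A') (_ : Algebra A A') (_ : Module.Finite A A')
      (_ : Module.Free A A') (π : A' →ₐ[A] AlgebraicClosure (ResidueField A)),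
      ∀ σ : B →ₐ[A] AlgebraicClosure (ResidueField A), ∃ ψ : B →ₐ[A] A', π.comp ψ = σ := by
  classical
  haveI := finite_algHom A B (AlgebraicClosure (ResidueField A))
  haveI := Fintype.ofFinite (B →ₐ[A] AlgebraicClosure (ResidueField A))
  suffices h : ∀ s : Finset (B →ₐ[A] AlgebraicClosure (ResidueField A)),
      ∃ (A' : Type u) (_ : CommRing A') (_ : IsLocalRing A') (_ : Algebra A A') (_ : Module.Finite A A')
        (_ : Module.Free A A') (π : A' →ₐ[A] AlgebraicClosure (ResidueField A)),
        ∀ σ ∈ s, ∃ ψ : B →ₐ[A] A', π.comp ψ = σ by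
    obtain ⟨A', _, _, _, _, _, π, hπ⟩ := h Finset.univ
    exact ⟨A', inferInstance, inferInstance, inferInstance, inferInstance, inferInstance, π, fun σ =>
      hπ σ (Finset.mem_univ σ)⟩
  intro s
  induction s using Finset.induction with
  | empty => exact ⟨A, inferInstance, inferInstance, inferInstance, inferInstance, inferInstance, Algebra.ofId A _, fun _ h => absurd h (Finset.notMem_empty _)⟩
  | insert σ s _ ih =>
    obtain ⟨A', _, _, _, _, _, π, hπ⟩ := ih
    obtain ⟨A'', _, _, _, _, _, π', j, ψ, hj, hψ⟩ := exists_step A B A' π σ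
    refine ⟨A'', inferInstance, inferInstance, inferInstance, inferInstance, inferInstance, π', fun τ hτ => ?_⟩
    rcases Finset.mem_insert.1 hτ with rfl | hτ
    · exact ⟨ψ, hψ⟩
    · obtain ⟨ψ', hψ'⟩ := hπ τ hτ
      exact ⟨j.comp ψ', by rw [← AlgHom.comp_assoc, hj, hψ']⟩

/-- The residual extension: a point of `R ⊗ A'` over `q` is cut out by a lift. -/
theorem exists_section (R B A' : Type u) [CommRing R] [Algebra A R] [CommRing B] [IsLocalRing B] [Algebra A B]
    [CommRing A'] [IsLocalRing A'] [Algebra A A'] [Module.Finite A A'] [Module.Finite A B]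
    (q : Ideal R) [q.IsMaximal] (ρ : R →ₐ[A] B) (hρq : (maximalIdeal B).comap ρ = q)
    (hρs : ∀ b : B, ∃ r : R, b - ρ r ∈ maximalIdeal B)
    (π : A' →ₐ[A] AlgebraicClosure (ResidueField A))
    (hπ : ∀ σ : B →ₐ[A] AlgebraicClosure (ResidueField A), ∃ ψ : B →ₐ[A] A', π.comp ψ = σ)
    (Q : Ideal (R ⊗[A] A')) [Q.IsPrime] (hQ : Q.comap (Algebra.TensorProduct.includeLeft : R →ₐ[A] R ⊗[A] A') = q) :
    ∃ ψ : R →ₐ[A] A', Q = (maximalIdeal A').comap (Algebra.TensorProduct.lift ψ (AlgHom.id A A') fun _ _ => Commute.all _ _) := by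
  let Kb := AlgebraicClosure (ResidueField A)
  haveI : IsArtinianRing A' := IsArtinianRing.of_finite A A'
  haveI : IsArtinianRing B := IsArtinianRing.of_finite A B
  let D := (R ⊗[A] A') ⧸ Q
  let qR : R →ₐ[A] D := (Ideal.Quotient.mkₐ A Q).comp Algebra.TensorProduct.includeLeft
  let qA : A' →ₐ[A] D := (Ideal.Quotient.mkₐ A Q).comp Algebra.TensorProduct.includeRight
  have hkerπ : RingHom.ker π.toRingHom = maximalIdeal A' :=
    haveI : (RingHom.ker π.toRingHom).IsPrime := RingHom.ker_isPrime _
    IsLocalRing.eq_maximalIdeal (IsArtinianRing.isMaximal_of_isPrime _)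
  have hkerR : RingHom.ker qR.toRingHom = q := by
    rw [← hQ]
    exact Ideal.ext fun r => Ideal.Quotient.eq_zero_iff_mem
  -- `D` is integral over `A'`
  haveI : Algebra.IsIntegral A B := inferInstance
  have hRint : ∀ r : R, IsIntegral A (qR r) := by
    intro r
    obtain ⟨P, hP, hP'⟩ := Algebra.IsIntegral.isIntegral (R := A) (ρ r)
    refine ⟨P, hP, ?_⟩
    have h1 : Polynomial.aeval (ρ r) P = 0 := hP'
    rw [Polynomial.aeval_algHom_apply] at h1
    have h2 : Polynomial.aeval r P ∈ RingHom.ker qR.toRingHom := by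
      rw [hkerR, ← hρq, Ideal.mem_comap, h1]
      exact zero_mem _
    show Polynomial.aeval (qR r) P = 0
    rw [Polynomial.aeval_algHom_apply]
    exact h2
  letI : Algebra A' D := qA.toRingHom.toAlgebra
  haveI : IsScalarTower A A' D := IsScalarTower.of_algebraMap_eq fun a => (qA.commutes a).symm
  haveI : Algebra.IsIntegral A D := ⟨fun d => by
    obtain ⟨d, rfl⟩ := Ideal.Quotient.mk_surjective d
    induction d using TensorProduct.induction_on with
    | zero => rw [map_zero]; exact isIntegral_zero
    | tmul r a =>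
      rw [show r ⊗ₜ[A] a = (r ⊗ₜ[A] (1 : A')) * ((1 : R) ⊗ₜ[A] a) by simp, map_mul]
      exact (hRint r).mul ((Algebra.IsIntegral.isIntegral (R := A) a).map qA)
    | add x y hx hy => rw [map_add]; exact hx.add hy⟩
  haveI : Algebra.IsIntegral A' D := Algebra.IsIntegral.tower_top (R := A)
  have hkerA : RingHom.ker qA.toRingHom = maximalIdeal A' :=
    haveI : (RingHom.ker qA.toRingHom).IsPrime := RingHom.ker_isPrime _
    IsLocalRing.eq_maximalIdeal (IsArtinianRing.isMaximal_of_isPrime _)
  -- embed `D` in the algebraic closure over the residue field of `A'`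
  let k' := ResidueField A'
  let φk : k' →+* D := Ideal.Quotient.lift (maximalIdeal A') qA.toRingHom fun a ha => by
    rwa [← hkerA] at ha
  let φK : k' →+* Kb := Ideal.Quotient.lift (maximalIdeal A') π.toRingHom fun a ha => by
    rwa [← hkerπ] at ha
  letI : Algebra k' D := φk.toAlgebra
  letI : Algebra k' Kb := φK.toAlgebra
  haveI : IsScalarTower A' k' D := IsScalarTower.of_algebraMap_eq fun a => rfl
  haveI : Algebra.IsIntegral k' D := Algebra.IsIntegral.tower_top (R := A')
  haveI : Algebra.IsAlgebraic k' D := Algebra.IsIntegral.isAlgebraic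
  haveI : Module.IsTorsionFree k' D := inferInstance
  let e : D →ₐ[k'] Kb := IsAlgClosed.lift
  have hπe : ∀ a, e (qA a) = π a := fun a => e.commutes (IsLocalRing.residue A' a)
  let σR : R →ₐ[A] Kb :=
    { e.toRingHom.comp qR.toRingHom with
      commutes' := fun a => by
        show e (qR (algebraMap A R a)) = _
        rw [qR.commutes, ← qA.commutes, hπe, π.commutes] }
  have hσq : q ≤ RingHom.ker σR.toRingHom := fun r hr => by
    rw [← hkerR] at hr
    show e (qR r) = 0
    rw [show qR r = 0 from hr, map_zero]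
  let θ : R →ₐ[A] B ⧸ maximalIdeal B := (Ideal.Quotient.mkₐ A (maximalIdeal B)).comp ρ
  have hθs : Function.Surjective θ := by
    intro b
    obtain ⟨b, rfl⟩ := Ideal.Quotient.mk_surjective b
    obtain ⟨r, hr⟩ := hρs b
    exact ⟨r, (Ideal.Quotient.eq.2 hr).symm⟩
  let τ : (B ⧸ maximalIdeal B) →+* Kb := θ.toRingHom.liftOfSurjective hθs ⟨σR.toRingHom, fun r hr => by
    refine hσq ?_
    rw [← hρq, Ideal.mem_comap]
    exact Ideal.Quotient.eq_zero_iff_mem.1 (show Ideal.Quotient.mk (maximalIdeal B) (ρ r) = 0 from hr)⟩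
  have hτ : ∀ r, τ (θ r) = σR r := fun r => RingHom.liftOfRightInverse_comp_apply _ _ _ _ r
  let σB : B →ₐ[A] Kb :=
    { τ.comp (Ideal.Quotient.mk (maximalIdeal B)) with
      commutes' := fun a => by
        show τ (Ideal.Quotient.mk (maximalIdeal B) (algebraMap A B a)) = _
        rw [← ρ.commutes, ← σR.commutes]
        exact hτ _ }
  obtain ⟨ψ, hψ⟩ := hπ σB
  refine ⟨ψ.comp ρ, ?_⟩
  have hinj : Function.Injective e := by
    haveI : IsDomain D := inferInstance
    have hF : IsField D := isField_of_isIntegral_of_isField' (Field.toIsField k')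
    letI := hF.toField
    exact e.toRingHom.injective
  have hcomp : ∀ z, e (Ideal.Quotient.mk Q z) =
      π (Algebra.TensorProduct.lift (ψ.comp ρ) (AlgHom.id A A') (fun _ _ => Commute.all _ _) z) := by
    intro z
    induction z using TensorProduct.induction_on with
    | zero => simp
    | tmul r a =>
      rw [Algebra.TensorProduct.lift_tmul, map_mul, show r ⊗ₜ[A] a = (r ⊗ₜ[A] (1 : A')) * ((1 : R) ⊗ₜ[A] a) by simp,
        map_mul, map_mul]
      refine congrArg₂ (· * ·) ?_ (hπe a)
      rw [AlgHom.comp_apply, ← AlgHom.comp_apply π ψ, hψ]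
      exact (hτ r).symm
    | add x y hx hy => simp only [map_add, hx, hy]
  ext z
  rw [Ideal.mem_comap, ← hkerπ, RingHom.mem_ker]
  show _ ↔ π _ = 0
  rw [← hcomp, map_eq_zero_iff e hinj, Ideal.Quotient.eq_zero_iff_mem]

end Groth.Agent.StrictRat
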